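import Groth.Agent.FComplLib.Thicken
import Groth.Agent.FComplLib.IdealComap
import Mathlib.RingTheory.Artinian.Ring
import Mathlib.CategoryTheory.Comma.Over.Pullback

/-!
# Schemes over an artinian local ring and their special fibre
-/

universe u

open CategoryTheory CategoryTheory.Limits AlgebraicGeometry IsLocalRing

namespace Groth.Agent.RedArtin

open Groth.Agent.FComplLib

variable {A : Type u} [CommRing A] [IsArtinianRing A] [IsLocalRing A]

/-- The closed point. -/
noncomputable abbrev pt (A : Type u) [CommRing A] [IsLocalRing A] :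
    Spec (CommRingCat.of (ResidueField A)) ⟶ Spec (CommRingCat.of A) :=
  Spec.map (CommRingCat.ofHom (residue A))

instance : IsClosedImmersion (pt A) := IsClosedImmersion.spec_of_surjective _ residue_surjective

instance : Surjective (pt A) := by
  refine ⟨fun p => ⟨closedPoint (ResidueField A), PrimeSpectrum.ext ?_⟩⟩
  have h1 : p.asIdeal = maximalIdeal A := eq_maximalIdeal inferInstance
  rw [h1]
  show Ideal.comap (residue A) (maximalIdeal (ResidueField A)) = _
  rw [maximalIdeal_eq_bot, ← RingHom.ker_eq_comap_bot, ker_residue]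

theorem exists_ker_pow : ∃ m : ℕ, (pt A).ker ^ m = ⊥ := by
  let U : (Spec (CommRingCat.of A)).affineOpens := ⟨⊤, isAffineOpen_top _⟩
  have hsupp : (pt A).ker.support = ⊤ := by
    ext1
    rw [Scheme.Hom.support_ker, Set.range_eq_univ.mpr (pt A).surjective, closure_univ]
    rfl
  have hfg : ((pt A).ker.ideal U).FG := (IsLocallyNoetherian.component_noetherian U).noetherian _
  obtain ⟨m, hm⟩ := (Ideal.FG.isNilpotent_iff_le_nilradical hfg).mpr (ideal_le_nilradical hsupp U)
  refine ⟨m, Scheme.IdealSheafData.ext_of_isAffine ?_⟩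
  show (pt A).ker.ideal U ^ m = ⊥
  rw [hm, Ideal.zero_eq_bot]

theorem locallyOfFiniteType (X : Over (Spec (CommRingCat.of A)))
    (h : LocallyOfFiniteType (pullback.snd X.hom (pt A))) : LocallyOfFiniteType X.hom :=
  locallyOfFiniteType_of_thickening (IsPullback.of_hasPullback X.hom (pt A))

theorem quasiCompact (X : Over (Spec (CommRingCat.of A)))
    (h : QuasiCompact (pullback.snd X.hom (pt A))) : QuasiCompact X.hom := by
  have : CompactSpace ↥(pullback X.hom (pt A)) := (quasiCompact_iff_compactSpace (pullback.snd X.hom (pt A))).mp h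
  have : CompactSpace X.left := (pullback.fst X.hom (pt A)).surjective.compactSpace (pullback.fst X.hom (pt A)).continuous
  exact (quasiCompact_iff_compactSpace X.hom).mpr inferInstance

variable {X Y : Over (Spec (CommRingCat.of A))} (u : X ⟶ Y)

theorem isPullback_fst : IsPullback (pullback.fst X.hom (pt A)) ((Over.pullback (pt A)).map u).left u.left
    (pullback.fst Y.hom (pt A)) := by
  have H := IsPullback.of_hasPullback Y.hom (pt A)
  refine IsPullback.of_bot ?_ (pullback.lift_fst _ _ _).symm H
  have e : ((Over.pullback (pt A)).map u).left ≫ pullback.snd Y.hom (pt A) = pullback.snd X.hom (pt A) :=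
    pullback.lift_snd _ _ _
  rw [e, Over.w u]
  exact IsPullback.of_hasPullback X.hom (pt A)

theorem exists_thickening : ∃ m : ℕ, (pullback.fst Y.hom (pt A)).ker ^ m = ⊥ := by
  obtain ⟨m, hm⟩ := exists_ker_pow (A := A)
  refine ⟨m, ?_⟩
  rw [Scheme.IdealSheafData.ker_fst_of_isClosedImmersion, ← comap_pow, hm]
  exact (Scheme.IdealSheafData.map_gc Y.hom).l_bot

theorem isClosedImmersion (h : IsClosedImmersion ((Over.pullback (pt A)).map u).left) :
    IsClosedImmersion u.left := by
  obtain ⟨m, hm⟩ := exists_thickening (Y := Y)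
  have : Surjective (pullback.fst X.hom (pt A)) := MorphismProperty.pullback_fst _ _ inferInstance
  exact isClosedImmersion_of_thickening (isPullback_fst u) hm

theorem isImmersion (h : IsImmersion ((Over.pullback (pt A)).map u).left) : IsImmersion u.left := by
  let f₀ := ((Over.pullback (pt A)).map u).left
  have : IsImmersion f₀ := h
  let j := pullback.fst Y.hom (pt A)
  let iX := pullback.fst X.hom (pt A)
  have hj : IsHomeomorph j := by
    have : Surjective j := MorphismProperty.pullback_fst _ _ inferInstance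
    exact isHomeomorph_iff_isEmbedding_surjective.mpr ⟨j.isEmbedding, j.surjective⟩
  have : Surjective iX := MorphismProperty.pullback_fst _ _ inferInstance
  let C : (pullback Y.hom (pt A)).Opens := f₀.coborderRange
  let U : Y.left.Opens := ⟨j '' (C : Set ↥(pullback Y.hom (pt A))), hj.isOpenMap _ C.2⟩
  have hU : j ⁻¹ᵁ U = f₀.coborderRange := TopologicalSpace.Opens.ext (Set.preimage_image_eq _ hj.injective)
  have hrange : Set.range u.left ⊆ (U : Set Y.left) := by
    rintro _ ⟨x, rfl⟩
    obtain ⟨x₀, rfl⟩ := iX.surjective x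
    refine ⟨f₀ x₀, subset_coborder ⟨x₀, rfl⟩, ?_⟩
    rw [← Scheme.Hom.comp_apply, ← Scheme.Hom.comp_apply, (isPullback_fst u).w]
  let u' : X.left ⟶ (U : Scheme.{u}) := IsOpenImmersion.lift U.ι u.left (by simpa using hrange)
  have hu' : u' ≫ U.ι = u.left := IsOpenImmersion.lift_fac _ _ _
  let Y' : Over (Spec (CommRingCat.of A)) := Over.mk (U.ι ≫ Y.hom)
  let v : X ⟶ Y' := Over.homMk u' (by show u' ≫ U.ι ≫ Y.hom = X.hom; rw [reassoc_of% hu', Over.w u])
  suffices IsClosedImmersion v.left by
    have : IsImmersion (u' ≫ U.ι) := by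
      have : IsClosedImmersion u' := this
      infer_instance
    rwa [hu'] at this
  refine isClosedImmersion v ?_
  let w := ((Over.pullback (pt A)).map (Over.homMk U.ι rfl : Y' ⟶ Y)).left
  have hw : ((Over.pullback (pt A)).map v).left ≫ w = f₀ := by
    rw [← Over.comp_left, ← Functor.map_comp]
    congr 2
    exact Over.OverMorphism.ext hu'
  have : IsOpenImmersion w := MorphismProperty.baseChange_map (P := @IsOpenImmersion) _
    (Over.homMk U.ι rfl : Y' ⟶ Y) (inferInstanceAs (IsOpenImmersion U.ι))
  let v₀ := ((Over.pullback (pt A)).map v).left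
  have : IsImmersion v₀ := by
    have : IsImmersion (v₀ ≫ w) := by rw [hw]; exact h
    exact IsImmersion.of_comp v₀ w
  refine IsClosedImmersion.of_isPreimmersion v₀ ?_
  have hwr : ∀ z, w z ∈ (f₀.coborderRange : Set _) := fun z => by
    rw [← hU]
    show j (w z) ∈ U
    have e : w ≫ j = pullback.fst Y'.hom (pt A) ≫ U.ι := pullback.lift_fst _ _ _
    rw [← Scheme.Hom.comp_apply, e, Scheme.Hom.comp_apply]
    exact ((pullback.fst Y'.hom (pt A)) z).2
  have he : Set.range v₀ = w ⁻¹' closure (Set.range f₀) := by
    refine subset_antisymm ?_ fun z hz => ?_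
    · rintro _ ⟨x, rfl⟩
      exact subset_closure ⟨x, by rw [← hw]; rfl⟩
    · have h1 : w z ∈ closure (Set.range f₀) ∩ coborder (Set.range f₀) := ⟨hz, hwr z⟩
      rw [closure_inter_coborder] at h1
      obtain ⟨x, hx⟩ := h1
      refine ⟨x, w.isOpenEmbedding.injective ?_⟩
      rw [← hx, ← hw]
      rfl
  rw [he]
  exact isClosed_closure.preimage w.continuous

end Groth.Agent.RedArtin
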